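import Groth.Agent.KRR28.Excess.Main
import Groth.Agent.KRR28.GrTransfer

/-!
# The excess intersection formula, models in any universe
-/

set_option autoImplicit false
set_option backward.isDefEq.respectTransparency false
set_option linter.style.haveILetI false

universe v u

open CategoryTheory CategoryTheory.Limits AlgebraicGeometry LambdaRing

noncomputable section

namespace Groth.Agent.KRR28

theorem excess' {X Y X₁ Y₁ : Scheme.{u}} [IsNoetherian Y] [ConnectedSpace ↥Y] [IsNoetherian Y₁] [ConnectedSpace ↥Y₁]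
    {A : Y.Modules} (hA : CohB1.IsAmple A) {A₁ : Y₁.Modules} (hA₁ : CohB1.IsAmple A₁)
    (f : X ⟶ Y) (hf : Mor2.IsRegularClosedImmersion f) [ConnectedSpace ↥X] {d : ℕ}
    (hC : FlatMod.IsFinLocFreeOfRank d (Omega.conormal f))
    (φ : Y₁ ⟶ Y) (f₁ : X₁ ⟶ Y₁) (ψ : X₁ ⟶ X) (hsq : IsPullback f₁ ψ φ f)
    (hf₁ : Mor2.IsRegularClosedImmersion f₁) [ConnectedSpace ↥X₁] {d₁ : ℕ}
    (hC₁ : FlatMod.IsFinLocFreeOfRank d₁ (Omega.conormal f₁))
    {KX KY KX₁ KY₁ : Type v} [CommRing KX] [LambdaOps KX] [CommRing KY] [LambdaOps KY] [CommRing KX₁]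
    [LambdaOps KX₁] [CommRing KY₁] [LambdaOps KY₁] {PX : PosStructure KX} {PY : PosStructure KY}
    {PX₁ : PosStructure KX₁} {PY₁ : PosStructure KY₁} {φX : SGA6.Kvb X →+ KX} {φY : SGA6.Kvb Y →+ KY}
    {φX₁ : SGA6.Kvb X₁ →+ KX₁} {φY₁ : SGA6.Kvb Y₁ →+ KY₁}
    (hKX : KRR.IsModel X KX PX φX) (hKY : KRR.IsModel Y KY PY φY)
    (hKX₁ : KRR.IsModel X₁ KX₁ PX₁ φX₁) (hKY₁ : KRR.IsModel Y₁ KY₁ PY₁ φY₁)
    {gφ : KY →+ KY₁} (hgφ : KRR.IsPull φ φY φY₁ gφ) {gψ : KX →+ KX₁} (hgψ : KRR.IsPull ψ φX φX₁ gψ)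
    {h : KX →+ KY} (hh : KRR.IsPushCl f φX φY h) {h₁ : KX₁ →+ KY₁} (hh₁ : KRR.IsPushCl f₁ φX₁ φY₁ h₁) (x : KX) :
    gφ (h x) =
      h₁ (KRR.lamAlt PX₁ (gψ (φX (KRR.cl X (Omega.conormal f))) - φX₁ (KRR.cl X₁ (Omega.conormal f₁))) * gψ x) := by
  obtain ⟨KX', _, _, PX', φX', hX'⟩ := KModel28.exists_model X
  obtain ⟨KY', _, _, PY', φY', hY'⟩ := KModel28.exists_model Y
  obtain ⟨LX, _, _, QX, ψX, hLX⟩ := KModel28.exists_model X₁
  obtain ⟨LY, _, _, QY, ψY, hLY⟩ := KModel28.exists_model Y₁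
  obtain ⟨eX, heX, hXφ, hXl, hXug⟩ := KSplit28.exists_iso hX' hKX
  obtain ⟨eY, heY, hYφ, hYl, hYug⟩ := KSplit28.exists_iso hY' hKY
  obtain ⟨uX, huX, hUXφ, hUXl, hUXug⟩ := KSplit28.exists_iso hLX hKX₁
  obtain ⟨uY, huY, hUYφ, hUYl, hUYug⟩ := KSplit28.exists_iso hLY hKY₁
  let EY := RingEquiv.ofBijective eY heY
  let UX := RingEquiv.ofBijective uX huX
  let UY := RingEquiv.ofBijective uY huY
  let gφ' : KY' →+ LY := UY.symm.toAddEquiv.toAddMonoidHom.comp (gφ.comp eY.toAddMonoidHom)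
  let gψ' : KX' →+ LX := UX.symm.toAddEquiv.toAddMonoidHom.comp (gψ.comp eX.toAddMonoidHom)
  let h' : KX' →+ KY' := EY.symm.toAddEquiv.toAddMonoidHom.comp (h.comp eX.toAddMonoidHom)
  let h₁' : LX →+ LY := UY.symm.toAddEquiv.toAddMonoidHom.comp (h₁.comp uX.toAddMonoidHom)
  have hgφ' : KRR.IsPull φ φY' ψY gφ' := fun E hE => by
    show UY.symm (gφ (eY (φY' _))) = _
    rw [hYφ, hgφ E hE, RingEquiv.symm_apply_eq]
    exact (hUYφ _).symm
  have hgψ' : KRR.IsPull ψ φX' ψX gψ' := fun E hE => by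
    show UX.symm (gψ (eX (φX' _))) = _
    rw [hXφ, hgψ E hE, RingEquiv.symm_apply_eq]
    exact (hUXφ _).symm
  have hh' : KRR.IsPushCl f φX' φY' h' := fun F hF m L π hL => by
    show EY.symm (h (eX (φX' _))) = _
    rw [hXφ, hh F hF m L π hL, map_sum]
    refine Finset.sum_congr rfl fun k _ => ?_
    rw [map_zsmul, ← hYφ]
    exact congrArg _ (EY.symm_apply_apply _)
  have hh₁' : KRR.IsPushCl f₁ ψX ψY h₁' := fun F hF m L π hL => by
    show UY.symm (h₁ (uX (ψX _))) = _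
    rw [hUXφ, hh₁ F hF m L π hL, map_sum]
    refine Finset.sum_congr rfl fun k _ => ?_
    rw [map_zsmul, ← hUYφ]
    exact congrArg _ (UY.symm_apply_apply _)
  obtain ⟨x, rfl⟩ := heX.2 x
  have hmain := congrArg uY (excess hA hA₁ f hf hC φ f₁ ψ hsq hf₁ hC₁ hX' hY' hLX hLY hgφ' hgψ' hh' hh₁' x)
  have hsymm : ∀ z, uY (UY.symm z) = z := UY.apply_symm_apply
  have hψ : ∀ z, uX (gψ' z) = gψ (eX z) := fun z => UX.apply_symm_apply _
  rw [show uY (gφ' (h' x)) = gφ (h (eX x)) from (hsymm _).trans (congrArg gφ (EY.apply_symm_apply _)),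
    show ∀ z, uY (h₁' z) = h₁ (uX z) from fun z => hsymm _, map_mul, hψ,
    map_lamAlt uX hUXl hUXug, map_sub, hψ, hXφ, hUXφ] at hmain
  exact hmain

end Groth.Agent.KRR28
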