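import Groth.Agent.KRR28.Bundle
import Groth.Agent.S9372
import Groth.Agent.Omega15.ConormalExist

/-!
# The map of deformations over a base change
-/

set_option autoImplicit false
set_option backward.isDefEq.respectTransparency false
set_option linter.style.haveILetI false
set_option linter.unusedSectionVars false

universe u

open CategoryTheory CategoryTheory.Limits AlgebraicGeometry TopologicalSpace

noncomputable section

namespace Groth.Agent.KRR28

attribute [local instance] isLocallyNoetherian_PY1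

theorem projSpaceMap_comp (n : ℕ) {A B C : Scheme.{u}} (a : A ⟶ B) (b : B ⟶ C) :
    KRR.projSpaceMap n a ≫ KRR.projSpaceMap n b = KRR.projSpaceMap n (a ≫ b) := by
  refine pullback.hom_ext ?_ ?_
  · simp only [KRR.projSpaceMap, Category.assoc, pullback.lift_fst, Category.comp_id]
  · simp only [KRR.projSpaceMap, Category.assoc, pullback.lift_snd]
    rw [← Category.assoc, pullback.lift_snd, Category.assoc]

variable {X Y X₁ Y₁ : Scheme.{u}} {f : X ⟶ Y} {f₁ : X₁ ⟶ Y₁} [IsClosedImmersion f] [IsClosedImmersion f₁]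
  [IsLocallyNoetherian X] [IsLocallyNoetherian Y] [IsLocallyNoetherian X₁] [IsLocallyNoetherian Y₁]
  {φ : Y₁ ⟶ Y} {ψ : X₁ ⟶ X} (hsq : IsPullback f₁ ψ φ f) (D : Deformation f) (D₁ : Deformation f₁)

include hsq

theorem comap_centre_map : (centre f).ker.comap (KRR.projSpaceMap 1 φ) = (centre f₁).ker := by
  haveI := isClosedImmersion_centre f
  haveI := isClosedImmersion_centre f₁
  have h : IsPullback ψ (centre f₁) (centre f) (KRR.projSpaceMap 1 φ) :=
    hsq.flip.paste_vert (isPullback_sect φ 1).flip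
  rw [← CycLib28.ker_pullback_snd]
  conv_rhs => rw [← h.isoPullback_hom_snd, Scheme.Hom.ker_comp_of_isIso]

theorem exists_map : ∃ Φ : D₁.M ⟶ D.M, Φ ≫ D.b = D₁.b ≫ KRR.projSpaceMap 1 φ ∧
    D.J.comap Φ = D₁.J := by
  have hc : (centre f).ker.comap (D₁.b ≫ KRR.projSpaceMap 1 φ) = D₁.J := by
    rw [Scheme.IdealSheafData.comap_comp, comap_centre_map hsq]
    rfl
  obtain ⟨Φ, hΦ, -⟩ := D.hb.2 _ (D₁.b ≫ KRR.projSpaceMap 1 φ) (by rw [hc]; exact D₁.isEffCartier_J)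
  refine ⟨Φ, hΦ, ?_⟩
  rw [Deformation.J, ← Scheme.IdealSheafData.comap_comp, hΦ, hc]

variable {Φ : D₁.M ⟶ D.M} (hΦ : Φ ≫ D.b = D₁.b ≫ KRR.projSpaceMap 1 φ)

include hΦ

theorem i₀_map : D₁.i₀ ≫ Φ = φ ≫ D.i₀ := by
  have e0 : (D₁.i₀ ≫ Φ) ≫ D.b = (φ ≫ D.i₀) ≫ D.b := by
    rw [Category.assoc, hΦ, ← Category.assoc, D₁.hi₀, Category.assoc, D.hi₀]
    exact sect_projSpaceMap φ 0
  refine SDiv28.hom_ext D.hb ?_ e0
  rw [e0, Category.assoc, D.hi₀, Scheme.IdealSheafData.comap_comp, comap_sect_zero, Scheme.IdealSheafData.comap_top]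
  exact isEffCartier_top

theorem F_map : D₁.F ≫ Φ = KRR.projSpaceMap 1 ψ ≫ D.F := by
  have e0 : (D₁.F ≫ Φ) ≫ D.b = (KRR.projSpaceMap 1 ψ ≫ D.F) ≫ D.b := by
    rw [Category.assoc, hΦ, ← Category.assoc, D₁.hF, Category.assoc, D.hF, projSpaceMap_comp, projSpaceMap_comp,
      hsq.w]
  refine SDiv28.hom_ext D.hb ?_ e0
  rw [show (D₁.F ≫ Φ) ≫ D.b = KRR.projSpaceMap 1 f₁ ≫ KRR.projSpaceMap 1 φ by
      rw [Category.assoc, hΦ, ← Category.assoc, D₁.hF],
    Scheme.IdealSheafData.comap_comp, comap_centre_map hsq, comap_centre]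
  exact isEffCartier_sectIdeal X₁ 1

theorem π_map : Φ ≫ D.π = D₁.π ≫ φ := by
  rw [Deformation.π, ← Category.assoc, hΦ, Category.assoc, KPr28.Gen.projSpaceMap_pr, Deformation.π, Category.assoc]

theorem ker_F_map (hJ : D.J.comap Φ = D₁.J) {d d₁ : ℕ} (hf : Mor2.IsRegularClosedImmersion f)
    (hC : FlatMod.IsFinLocFreeOfRank d (Omega.conormal f)) (hf₁ : Mor2.IsRegularClosedImmersion f₁)
    (hC₁ : FlatMod.IsFinLocFreeOfRank d₁ (Omega.conormal f₁)) : D.F.ker.comap Φ = D₁.F.ker := by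
  refine ModPairLib.eq_of_mul_eq_mul D₁.isEffCartier_J ?_
  conv_lhs => rw [← hJ, ← ModPairLib.comap_mul, D.ker_F_mul_J hf hC, ← Scheme.IdealSheafData.comap_comp,
    π_map hsq D D₁ hΦ, Scheme.IdealSheafData.comap_comp]
  rw [D₁.ker_F_mul_J hf₁ hC₁, ← CycLib28.ker_pullback_snd]
  congr 1
  conv_rhs => rw [← hsq.flip.isoPullback_hom_snd, Scheme.Hom.ker_comp_of_isIso]

omit hsq hΦ in
theorem preimage_range_F (hk : D.F.ker.comap Φ = D₁.F.ker) (m : D₁.M) (hm : Φ m ∈ Set.range D.F) :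
    m ∈ Set.range D₁.F := by
  have h : m ∈ ((D.F.ker.comap Φ).support : Set D₁.M) := by
    rw [Scheme.IdealSheafData.support_comap]
    show Φ m ∈ (D.F.ker.support : Set _)
    rw [Scheme.Hom.support_ker]
    exact subset_closure hm
  rw [hk, Scheme.Hom.support_ker] at h
  exact D₁.F.isClosedEmbedding.isClosed_range.closure_eq.le h

omit hsq hΦ in
theorem exists_mapE (hJ : D.J.comap Φ = D₁.J) : ∃ ΦE : D₁.J.subscheme ⟶ D.J.subscheme, ΦE ≫ D.e = D₁.e ≫ Φ :=
  ⟨IsClosedImmersion.lift D.e (D₁.e ≫ Φ) (by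
    rw [Deformation.e, Scheme.IdealSheafData.ker_subschemeι, ← Scheme.IdealSheafData.map_ker,
      Scheme.IdealSheafData.le_map_iff_comap_le, hJ, Deformation.e, Scheme.IdealSheafData.ker_subschemeι]),
    IsClosedImmersion.lift_fac _ _ _⟩

theorem ρ_map {ΦE : D₁.J.subscheme ⟶ D.J.subscheme} (hE : ΦE ≫ D.e = D₁.e ≫ Φ) :
    ΦE ≫ D.ρ = D₁.ρ ≫ ψ := by
  haveI := isClosedImmersion_centre f
  have hc : centre f₁ ≫ KRR.projSpaceMap 1 φ = ψ ≫ centre f := by
    rw [centre, centre, Category.assoc, sect_projSpaceMap, ← Category.assoc, hsq.w, Category.assoc]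
  rw [← cancel_mono (centre f), Category.assoc, D.ρ_centre, ← Category.assoc, hE, Category.assoc, hΦ,
    Category.assoc, ← hc, ← Category.assoc D₁.ρ, D₁.ρ_centre, Category.assoc]

omit hΦ in
/-- The excess bundle. -/
theorem exists_excess [ConnectedSpace ↥X₁] {d d₁ : ℕ} (hC : FlatMod.IsFinLocFreeOfRank d (Omega.conormal f))
    (hC₁ : FlatMod.IsFinLocFreeOfRank d₁ (Omega.conormal f₁)) :
    ∃ (r : ℕ) (N : X₁.Modules), FlatMod.IsFinLocFreeOfRank r N ∧
      KRR.cl X₁ ((Scheme.Modules.pullback ψ).obj (Omega.conormal f)) =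
        KRR.cl X₁ N + KRR.cl X₁ (Omega.conormal f₁) := by
  obtain ⟨κ, hκ⟩ := Omega15.exists_conormalMap (i := f₁) (i' := f) (g := φ) (gZ := ψ) hsq.w.symm
  haveI := (S9372.result f₁ f φ ψ hsq κ hκ).1
  have h₂ := FlatMorAdm.isFinLocFree_pullback ψ (VarietyLib.isFinLocFree_of_rank hC)
  have h₃ := VarietyLib.isFinLocFree_of_rank hC₁
  have hN := KPush28.finLocFree_kernel κ h₂ h₃
  obtain ⟨r, hr⟩ := KModel28.exists_rank hN
  refine ⟨r, _, hr, ?_⟩
  exact ExtFilt28.clv_ses (S := ShortComplex.mk (kernel.ι κ) κ (kernel.condition κ)) (ResLF28.ses_kernel κ) hN h₂ h₃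

end Groth.Agent.KRR28
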