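import Groth.Agent.KRR28.Maps

/-!
# `λ₋₁` of classes of bundles
-/

set_option autoImplicit false
set_option backward.isDefEq.respectTransparency false
set_option linter.style.haveILetI false

universe v u

open CategoryTheory CategoryTheory.Limits AlgebraicGeometry LambdaRing

noncomputable section

namespace Groth.Agent.KRR28

variable {K : Type v} [CommRing K] [LambdaOps K] {P : PosStructure K}

/-- `x` behaves like the class of a bundle of rank `r`. -/
def Bdd (P : PosStructure K) (x : K) (r : ℕ) : Prop :=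
  P.aug x = r ∧ ∀ i : ℕ, r < i → LambdaOps.lam i x = 0

theorem bdd_of_bundle {X : Scheme.{u}} {φ : SGA6.Kvb X →+ K} (hK : KRR.IsModel X K P φ) {E : X.Modules} {r : ℕ}
    (hE : FlatMod.IsFinLocFreeOfRank r E) : Bdd P (φ (KRR.cl X E)) r := by
  refine ⟨hK.aug_cl r E hE, fun i hi => ?_⟩
  rcases Nat.eq_zero_or_pos r with rfl | hr
  · rw [KModel28.cl_isZero (KModel28.isZero_of_rank_zero hE), map_zero,
      ← LambdaLib.coeff_lamSeries, LambdaLib.lamSeries_zero, PowerSeries.coeff_one, if_neg hi.ne']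
  · exact P.lam_eq_zero _ ((hK.mem_pos_iff _).2 ⟨r, E, hr, hE, rfl⟩) i (by rw [hK.aug_cl r E hE]; exact_mod_cast hi)

/-- The polynomial `Σ_{i ≤ r} λ^i(x) T^i`. -/
def lamPolyN (x : K) (r : ℕ) : Polynomial K := ∑ i ∈ Finset.range (r + 1), Polynomial.monomial i (LambdaOps.lam i x)

theorem coe_lamPolyN {x : K} {r : ℕ} (h : Bdd P x r) : (lamPolyN x r : PowerSeries K) = lamSeries x := by
  ext n
  rw [Polynomial.coeff_coe, LambdaLib.coeff_lamSeries, lamPolyN, Polynomial.finsetSum_coeff]
  simp only [Polynomial.coeff_monomial]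
  rw [Finset.sum_ite_eq']
  split_ifs with hn
  · rfl
  · exact (h.2 n (by simp only [Finset.mem_range] at hn; omega)).symm

theorem lamAlt_eq_eval {x : K} {r : ℕ} (h : Bdd P x r) : KRR.lamAlt P x = (lamPolyN x r).eval (-1) := by
  rw [KRR.lamAlt, h.1, Int.toNat_natCast, lamPolyN, Polynomial.eval_finsetSum]
  exact Finset.sum_congr rfl fun i _ => by rw [Polynomial.eval_monomial, mul_comm]

theorem lamAlt_add {a b : K} {r s : ℕ} (ha : Bdd P a r) (hb : Bdd P b s) :
    KRR.lamAlt P (a + b) = KRR.lamAlt P a * KRR.lamAlt P b := by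
  have hab : Bdd P (a + b) (r + s) := by
    refine ⟨by rw [map_add, ha.1, hb.1]; push_cast; rfl, fun i hi => ?_⟩
    rw [LambdaOps.lam_add]
    refine Finset.sum_eq_zero fun j hj => ?_
    rcases lt_or_ge r j with h | h
    · rw [ha.2 j h, zero_mul]
    · rw [hb.2 (i - j) (by omega), mul_zero]
  rw [lamAlt_eq_eval hab, lamAlt_eq_eval ha, lamAlt_eq_eval hb, ← Polynomial.eval_mul]
  refine congrArg _ (Polynomial.coe_injective K ?_)
  rw [Polynomial.coe_mul, coe_lamPolyN hab, coe_lamPolyN ha, coe_lamPolyN hb, LambdaLib.lamSeries_add]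

theorem map_lamAlt {K' : Type*} [CommRing K'] [LambdaOps K'] {P' : PosStructure K'} (f : K →+* K')
    (hl : ∀ (i : ℕ) (x : K), f (LambdaOps.lam i x) = LambdaOps.lam i (f x))
    (haug : ∀ x, P'.aug (f x) = P.aug x) (x : K) : f (KRR.lamAlt P x) = KRR.lamAlt P' (f x) := by
  rw [KRR.lamAlt, KRR.lamAlt, haug, map_sum]
  exact Finset.sum_congr rfl fun i _ => by rw [map_mul, map_pow, map_neg, map_one, hl]

end Groth.Agent.KRR28
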