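import Groth.Agent.KRR28.Main
import Groth.Agent.KRR28.Excess.Geom
import Groth.Agent.KRR28.Excess.Lam

/-!
# The excess intersection formula
-/

set_option autoImplicit false
set_option backward.isDefEq.respectTransparency false
set_option linter.style.haveILetI false
set_option linter.unusedSectionVars false
set_option maxHeartbeats 1600000

universe v u

open CategoryTheory CategoryTheory.Limits AlgebraicGeometry LambdaRing

noncomputable section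

namespace Groth.Agent.KRR28

attribute [local instance] isLocallyNoetherian_PY1

theorem isFinLocFree_idealMod {M : Scheme.{u}} {I : M.IdealSheafData} (hI : BlowUp.IsEffCartierIdeal I) :
    FlatMod.IsFinLocFree (ClSub.idealMod I) :=
  VarietyLib.isFinLocFree_of_rank (PicLib.isFinLocFreeOfRank_one (FlatMor12.IdealModGen.isInvertible_idealMod _ hI))

theorem cl_mul_inverse {M : Scheme.{u}} {K : Type v} [CommRing K] [LambdaOps K] {P : PosStructure K}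
    {φ : SGA6.Kvb M →+ K} (hK : KRR.IsModel M K P φ) {I : M.IdealSheafData} (hI : BlowUp.IsEffCartierIdeal I)
    {L : M.Modules} (hL : ClSub.IsInverseOf (ClSub.idealMod I) L) (hLi : PicF.IsInvertible L) :
    φ (KRR.cl M (ClSub.idealMod I)) * φ (KRR.cl M L) = 1 := by
  obtain ⟨e⟩ := hL
  rw [hK.map_mul _ _ (isFinLocFree_idealMod hI) (VarietyLib.isFinLocFree_of_rank (PicLib.isFinLocFreeOfRank_one hLi)),
    ← hK.map_one]
  exact congrArg φ (ExtFilt28.clv_iso e)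

/-- The divisor at infinity is trivial on the subscheme at infinity. -/
theorem cl_J_fInf {X Y : Scheme.{u}} {f : X ⟶ Y} [IsClosedImmersion f] [IsNoetherian X] [IsNoetherian Y]
    [ConnectedSpace ↥X] (D : Deformation f) [ConnectedSpace ↥D.M] [ConnectedSpace ↥D.J.subscheme]
    {KX KM KE : Type (u + 1)} [CommRing KX] [LambdaOps KX] [CommRing KM] [LambdaOps KM] [CommRing KE] [LambdaOps KE]
    {PX : PosStructure KX} {PM : PosStructure KM} {φX : SGA6.Kvb X →+ KX} {φM : SGA6.Kvb D.M →+ KM}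
    {φE : SGA6.Kvb D.J.subscheme →+ KE}
    (hKX : KRR.IsModel X KX PX φX) (hKM : KRR.IsModel D.M KM PM φM)
    {gi : KE →+* KX} (hgi : KRR.IsPull D.fInf φE φX gi.toAddMonoidHom) {ge : KM →+* KE}
    (hge : KRR.IsPull D.e φM φE ge.toAddMonoidHom) :
    gi (ge (φM (KRR.cl D.M (ClSub.idealMod D.J)))) = 1 := by
  haveI := KPushPr28.isNoetherian_PY 1 X
  haveI := KSplit28.connectedSpace_PY 1 X
  obtain ⟨KPX, _, _, PPX, φPX, hKPX⟩ := KModel28.exists_model (KRR.PY 1 X)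
  have kM := KSplit28.isKRing_of_isModel hKM
  obtain ⟨gFs, hgFs, -, -, -⟩ := KSplit28.exists_pullHom (P1.sect X 1 ≫ D.F) hKX hKM
  obtain ⟨gF, hgF, -, -, -⟩ := KSplit28.exists_pullHom D.F hKPX hKM
  obtain ⟨s₁, hs₁, -, -, -⟩ := KSplit28.exists_pullHom (P1.sect X 1) hKX hKPX
  have hJf := isFinLocFree_idealMod D.isEffCartier_J
  have e : ∀ z, gi (ge z) = s₁ (gF z) := fun z =>
    (pull_comp D.fInf_e kM hgi hge hgFs z).trans (pull_comp rfl kM hs₁ hgF hgFs z).symm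
  rw [e, show gF _ = _ from hgF _ hJf]
  obtain ⟨e1⟩ := Inters29.nonempty_pullback_idealMod_iso D.F D.J D.isEffCartier_J
    (by rw [D.comap_J_F]; exact isEffCartier_sectIdeal X 1)
  obtain ⟨e2⟩ := nonempty_sectIdeal_iso X
  obtain ⟨e3⟩ := nonempty_pullback_idealMod (P1.sect X 1) (isEffCartier_sectIdeal X 0) (fun q hq => by
    have := Set.disjoint_right.1 (disjoint_range_sect X (i := 0) (j := 1) (by decide)) ⟨q, rfl⟩
    exact this ((support_sectIdeal X 0).le hq))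
  rw [show s₁ _ = _ from hs₁ _ (FlatMorAdm.isFinLocFree_pullback D.F hJf), ← hKX.map_one]
  exact congrArg φX (ExtFilt28.clv_iso ((Scheme.Modules.pullback (P1.sect X 1)).mapIso (e1 ≪≫ eqToIso
    (congrArg ClSub.idealMod D.comap_J_F) ≪≫ e2.symm) ≪≫ e3))

/-- The excess intersection formula, for models in the working universe. -/
theorem excess {X Y X₁ Y₁ : Scheme.{u}} [IsNoetherian Y] [ConnectedSpace ↥Y] [IsNoetherian Y₁] [ConnectedSpace ↥Y₁]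
    {A : Y.Modules} (hA : CohB1.IsAmple A) {A₁ : Y₁.Modules} (hA₁ : CohB1.IsAmple A₁)
    (f : X ⟶ Y) (hf : Mor2.IsRegularClosedImmersion f) [ConnectedSpace ↥X] {d : ℕ}
    (hC : FlatMod.IsFinLocFreeOfRank d (Omega.conormal f))
    (φ : Y₁ ⟶ Y) (f₁ : X₁ ⟶ Y₁) (ψ : X₁ ⟶ X) (hsq : IsPullback f₁ ψ φ f)
    (hf₁ : Mor2.IsRegularClosedImmersion f₁) [ConnectedSpace ↥X₁] {d₁ : ℕ}
    (hC₁ : FlatMod.IsFinLocFreeOfRank d₁ (Omega.conormal f₁))
    {KX KY KX₁ KY₁ : Type (u + 1)} [CommRing KX] [LambdaOps KX] [CommRing KY] [LambdaOps KY] [CommRing KX₁]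
    [LambdaOps KX₁] [CommRing KY₁] [LambdaOps KY₁] {PX : PosStructure KX} {PY : PosStructure KY}
    {PX₁ : PosStructure KX₁} {PY₁ : PosStructure KY₁} {φX : SGA6.Kvb X →+ KX} {φY : SGA6.Kvb Y →+ KY}
    {φX₁ : SGA6.Kvb X₁ →+ KX₁} {φY₁ : SGA6.Kvb Y₁ →+ KY₁}
    (hKX : KRR.IsModel X KX PX φX) (hKY : KRR.IsModel Y KY PY φY)
    (hKX₁ : KRR.IsModel X₁ KX₁ PX₁ φX₁) (hKY₁ : KRR.IsModel Y₁ KY₁ PY₁ φY₁)
    {gφ : KY →+ KY₁} (hgφ : KRR.IsPull φ φY φY₁ gφ) {gψ : KX →+ KX₁} (hgψ : KRR.IsPull ψ φX φX₁ gψ)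
    {h : KX →+ KY} (hh : KRR.IsPushCl f φX φY h) {h₁ : KX₁ →+ KY₁} (hh₁ : KRR.IsPushCl f₁ φX₁ φY₁ h₁) (x : KX) :
    gφ (h x) =
      h₁ (KRR.lamAlt PX₁ (gψ (φX (KRR.cl X (Omega.conormal f))) - φX₁ (KRR.cl X₁ (Omega.conormal f₁))) * gψ x) := by
  haveI := hf.1
  haveI := hf₁.1
  haveI : IsLocallyNoetherian X := LocallyOfFiniteType.isLocallyNoetherian f
  haveI : CompactSpace X := f.isClosedEmbedding.compactSpace
  haveI : IsNoetherian X := {}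
  haveI : IsLocallyNoetherian X₁ := LocallyOfFiniteType.isLocallyNoetherian f₁
  haveI : CompactSpace X₁ := f₁.isClosedEmbedding.compactSpace
  haveI : IsNoetherian X₁ := {}
  haveI := KPushPr28.isNoetherian_PY 1 Y
  haveI := KPushPr28.isNoetherian_PY 1 X
  haveI := KPushPr28.isNoetherian_PY 1 Y₁
  haveI := KPushPr28.isNoetherian_PY 1 X₁
  haveI := KSplit28.connectedSpace_PY 1 Y
  haveI := KSplit28.connectedSpace_PY 1 X
  haveI := KSplit28.connectedSpace_PY 1 Y₁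
  haveI := KSplit28.connectedSpace_PY 1 X₁
  -- the two deformations
  obtain ⟨D⟩ := nonempty_deformation f
  obtain ⟨D₁⟩ := nonempty_deformation f₁
  haveI := D.isLocallyNoetherian_M
  haveI := D.isLocallyNoetherian_E
  haveI := D₁.isLocallyNoetherian_M
  haveI := D₁.isLocallyNoetherian_E
  haveI : CompactSpace D.M := QuasiCompact.compactSpace_of_compactSpace D.b
  haveI : IsNoetherian D.M := {}
  haveI : CompactSpace D.J.subscheme := D.e.isClosedEmbedding.compactSpace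
  haveI : IsNoetherian D.J.subscheme := {}
  haveI : CompactSpace D₁.M := QuasiCompact.compactSpace_of_compactSpace D₁.b
  haveI : IsNoetherian D₁.M := {}
  haveI : CompactSpace D₁.J.subscheme := D₁.e.isClosedEmbedding.compactSpace
  haveI : IsNoetherian D₁.J.subscheme := {}
  haveI := D.connectedSpace_M hf hC
  haveI := D.connectedSpace_E hf hC
  haveI := D₁.connectedSpace_M hf₁ hC₁
  haveI := D₁.connectedSpace_E hf₁ hC₁
  obtain ⟨Φ, hΦ, hΦJ⟩ := exists_map hsq D D₁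
  obtain ⟨ΦE, hΦE⟩ := exists_mapE D D₁ hΦJ
  have hρ := ρ_map hsq D D₁ hΦ hΦE
  have hkerF := ker_F_map hsq D D₁ hΦ hΦJ hf hC hf₁ hC₁
  -- ampleness and enough bundles
  have hIft : ∀ {X' Y' : Scheme.{u}} [IsNoetherian Y'] (f' : X' ⟶ Y'),
      BlowUp.IsFiniteTypeIdeal (centre f').ker := fun {X' Y'} _ f' V => by
    haveI := KPushPr28.isNoetherian_PY 1 Y'
    haveI := IsLocallyNoetherian.component_noetherian (X := KRR.PY 1 Y') V
    exact Ideal.fg_of_isNoetherianRing _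
  obtain ⟨AP, hAP⟩ := FlatMor12.ProjectiveAmple.exists_isAmple_of_immersion ⟨A, hA⟩ (𝟙 (KRR.PY 1 Y))
  obtain ⟨AP₁, hAP₁⟩ := FlatMor12.ProjectiveAmple.exists_isAmple_of_immersion ⟨A₁, hA₁⟩ (𝟙 (KRR.PY 1 Y₁))
  obtain ⟨N₀, i₀', hi₀', -⟩ := (RelVALib.isProjective_iff_isHProjective hAP D.b).1
    (FlatMorAdm.isProjective_blowUp (hIft f) D.hb)
  obtain ⟨N, i, hi, hib⟩ := (RelVALib.isProjective_iff_isHProjective hAP₁ D₁.b).1
    (FlatMorAdm.isProjective_blowUp (hIft f₁) D₁.hb)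
  haveI := hi
  haveI := hi₀'
  haveI := KPushPr28.isNoetherian_PY N₀ (KRR.PY 1 Y)
  haveI := KPushPr28.isNoetherian_PY N (KRR.PY 1 Y₁)
  obtain ⟨AQ, hAQ⟩ := FlatMor12.ProjectiveAmple.exists_isAmple_of_immersion ⟨AP, hAP⟩ (𝟙 (KRR.PY N₀ (KRR.PY 1 Y)))
  obtain ⟨AQ₁, hAQ₁⟩ := FlatMor12.ProjectiveAmple.exists_isAmple_of_immersion ⟨AP₁, hAP₁⟩ (𝟙 (KRR.PY N (KRR.PY 1 Y₁)))
  have hYe₁ := enough_of_ample hA₁
  have hPe₁ := enough_of_ample hAP₁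
  have hQe₁ := enough_of_ample hAQ₁
  have hMe : KRR.HasEnoughLocFree D.M := KBC28.hasEnough_closed i₀' (enough_of_ample hAQ)
  have hEe : KRR.HasEnoughLocFree D.J.subscheme := KBC28.hasEnough_closed D.e hMe
  have hMe₁ : KRR.HasEnoughLocFree D₁.M := KBC28.hasEnough_closed i hQe₁
  have hEe₁ : KRR.HasEnoughLocFree D₁.J.subscheme := KBC28.hasEnough_closed D₁.e hMe₁
  -- models
  obtain ⟨KPX, _, _, PPX, φPX, hKPX⟩ := KModel28.exists_model (KRR.PY 1 X)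
  obtain ⟨KM, _, _, PM, φM, hKM⟩ := KModel28.exists_model D.M
  obtain ⟨KE, _, _, PE, φE, hKE⟩ := KModel28.exists_model D.J.subscheme
  obtain ⟨KP, _, _, PP, φP, hKP⟩ := KModel28.exists_model (KRR.PY 1 Y₁)
  obtain ⟨KPX₁, _, _, PPX₁, φPX₁, hKPX₁⟩ := KModel28.exists_model (KRR.PY 1 X₁)
  obtain ⟨KM₁, _, _, PM₁, φM₁, hKM₁⟩ := KModel28.exists_model D₁.M
  obtain ⟨KE₁, _, _, PE₁, φE₁, hKE₁⟩ := KModel28.exists_model D₁.J.subscheme
  have kY := KSplit28.isKRing_of_isModel hKY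
  have kX := KSplit28.isKRing_of_isModel hKX
  have kPX := KSplit28.isKRing_of_isModel hKPX
  have kM := KSplit28.isKRing_of_isModel hKM
  have kE := KSplit28.isKRing_of_isModel hKE
  have kY₁ := KSplit28.isKRing_of_isModel hKY₁
  have kX₁ := KSplit28.isKRing_of_isModel hKX₁
  have kP := KSplit28.isKRing_of_isModel hKP
  have kPX₁ := KSplit28.isKRing_of_isModel hKPX₁
  have kM₁ := KSplit28.isKRing_of_isModel hKM₁
  have kE₁ := KSplit28.isKRing_of_isModel hKE₁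
  obtain ⟨gq, l, el, hgq, -, -, -, -, -, -, hpow, -, hbasis⟩ := KSplit28.exists_PY_data 1 Y₁ hKP hKY₁
  obtain ⟨gX, hgX, -, -, -⟩ := KSplit28.exists_pullHom (KRR.pr 1 X) hKPX hKX
  obtain ⟨gX₁, hgX₁, -, -, -⟩ := KSplit28.exists_pullHom (KRR.pr 1 X₁) hKPX₁ hKX₁
  obtain ⟨gb, hgb, -, -, -⟩ := KSplit28.exists_pullHom D₁.b hKM₁ hKP
  obtain ⟨gΦ, hgΦ, -, -, -⟩ := KSplit28.exists_pullHom Φ hKM₁ hKM
  obtain ⟨gE, hgE, hlE, haE, -⟩ := KSplit28.exists_pullHom ΦE hKE₁ hKE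
  obtain ⟨g₀, hg₀, -, -, -⟩ := KSplit28.exists_pullHom D.i₀ hKY hKM
  obtain ⟨g₀', hg₀', -, -, -⟩ := KSplit28.exists_pullHom D₁.i₀ hKY₁ hKM₁
  obtain ⟨s₀, hs₀, -, -, -⟩ := KSplit28.exists_pullHom (P1.sect X 0) hKX hKPX
  obtain ⟨s₁, hs₁, -, -, -⟩ := KSplit28.exists_pullHom (P1.sect X 1) hKX hKPX
  obtain ⟨s₀', hs₀', -, -, -⟩ := KSplit28.exists_pullHom (P1.sect X₁ 0) hKX₁ hKPX₁
  obtain ⟨s₁', hs₁', -, -, -⟩ := KSplit28.exists_pullHom (P1.sect X₁ 1) hKX₁ hKPX₁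
  obtain ⟨ge, hge, -, -, -⟩ := KSplit28.exists_pullHom D.e hKE hKM
  obtain ⟨ge₁, hge₁, -, -, -⟩ := KSplit28.exists_pullHom D₁.e hKE₁ hKM₁
  obtain ⟨gi, hgi, -, -, -⟩ := KSplit28.exists_pullHom D.fInf hKX hKE
  obtain ⟨gi₁, hgi₁, hli₁, hai₁, -⟩ := KSplit28.exists_pullHom D₁.fInf hKX₁ hKE₁
  obtain ⟨gρ, hgρ, -, -, -⟩ := KSplit28.exists_pullHom D.ρ hKE hKX
  obtain ⟨gρ₁, hgρ₁, -, -, -⟩ := KSplit28.exists_pullHom D₁.ρ hKE₁ hKX₁
  obtain ⟨hF, hFc⟩ := D.regular_F hf hC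
  obtain ⟨hI, hIc⟩ := D.regular_fInf hf hC
  obtain ⟨hF₁, hFc₁⟩ := D₁.regular_F hf₁ hC₁
  obtain ⟨hI₁, hIc₁⟩ := D₁.regular_fInf hf₁ hC₁
  obtain ⟨pF, hpF, -⟩ := KPush28.existsUnique_isPushCl D.F hMe hF φPX hKPX.bijective φM
  obtain ⟨pI, hpI, -⟩ := KPush28.existsUnique_isPushCl D.fInf hEe hI φX hKX.bijective φE
  obtain ⟨pF₁, hpF₁, -⟩ := KPush28.existsUnique_isPushCl D₁.F hMe₁ hF₁ φPX₁ hKPX₁.bijective φM₁
  obtain ⟨pI₁, hpI₁, -⟩ := KPush28.existsUnique_isPushCl D₁.fInf hEe₁ hI₁ φX₁ hKX₁.bijective φE₁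
  -- the classes
  obtain ⟨r, NB, hNB, hexc⟩ := exists_excess hsq hC hC₁
  set c := φX (KRR.cl X (Omega.conormal f)) with hcdef
  set c₁ := φX₁ (KRR.cl X₁ (Omega.conormal f₁)) with hc₁def
  have hψc : gψ c = φX₁ (KRR.cl X₁ NB) + c₁ := by
    rw [hcdef, hgψ _ (VarietyLib.isFinLocFree_of_rank hC), hexc, map_add]
  set ε := φX₁ (KRR.cl X₁ NB) with hεdef
  rw [show gψ c - c₁ = ε by rw [hψc, add_sub_cancel_right]]
  set w := KRR.lamAlt PX₁ ε * gψ x with hwdef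
  set Δ := gφ (h x) - h₁ w with hΔdef
  suffices hΔ : Δ = 0 by rwa [hΔdef, sub_eq_zero] at hΔ
  set δ := gΦ (pF (gX x)) - pF₁ (gX₁ w) with hδdef
  have hsX₀ : ∀ z, s₀ (gX z) = z :=
    pull_comp (P1Lib24.sect_toBase X 0) kX hs₀ hgX (pull_id kX)
  have hsX₁ : ∀ z, s₁ (gX z) = z :=
    pull_comp (P1Lib24.sect_toBase X 1) kX hs₁ hgX (pull_id kX)
  have hsX₀' : ∀ z, s₀' (gX₁ z) = z :=
    pull_comp (P1Lib24.sect_toBase X₁ 0) kX₁ hs₀' hgX₁ (pull_id kX₁)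
  have hsX₁' : ∀ z, s₁' (gX₁ z) = z :=
    pull_comp (P1Lib24.sect_toBase X₁ 1) kX₁ hs₁' hgX₁ (pull_id kX₁)
  -- restriction at zero
  have h0δ : g₀' δ = Δ := by
    obtain ⟨gc, hgc, -, -, -⟩ := KSplit28.exists_pullHom (D₁.i₀ ≫ Φ) hKY₁ hKM
    have e : ∀ z, g₀' (gΦ z) = gφ (g₀ z) := fun z =>
      (pull_comp rfl kM hg₀' hgΦ hgc z).trans (pull_comp (i₀_map hsq D D₁ hΦ).symm kM hgφ hg₀ hgc z).symm
    rw [hδdef, map_sub, e,
      show g₀ (pF (gX x)) = h (s₀ (gX x)) from pull_push D.isPullback_i₀ hMe hF hf hFc hC kPX hg₀ hs₀ hpF hh _,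
      show g₀' (pF₁ (gX₁ w)) = h₁ (s₀' (gX₁ w)) from
        pull_push D₁.isPullback_i₀ hMe₁ hF₁ hf₁ hFc₁ hC₁ kPX₁ hg₀' hs₀' hpF₁ hh₁ _, hsX₀, hsX₀']
  have h0Δ : g₀' (gb (gq Δ)) = Δ := by
    obtain ⟨gs, hgs, -, -, -⟩ := KSplit28.exists_pullHom (P1.sect Y₁ 0) hKY₁ hKP
    rw [show g₀' (gb (gq Δ)) = gs (gq Δ) from pull_comp D₁.hi₀ kP hg₀' hgb hgs (gq Δ)]
    exact pull_comp (P1Lib24.sect_toBase Y₁ 0) kY₁ hgs hgq (pull_id kY₁) Δ
  let T : Fin (1 + 1) → (D₁.M.IdealSheafData) := fun k => (sectIdeal Y₁ k).comap D₁.b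
  have hT : ∀ k, BlowUp.IsEffCartierIdeal (T k) :=
    fun k => SDiv28.isEffCartier_comap D₁.hb (isEffCartier_sectIdeal Y₁ k)
  let m : Fin (1 + 1) → KM₁ := fun k => φM₁ (KRR.cl D₁.M (ClSub.idealMod (T k)))
  have hzero : (δ - gb (gq Δ)) * (1 - m 0) = 0 := by
    obtain ⟨KT, _, _, φT, hKT⟩ := exists_kring.{u} (T 0).subscheme
    obtain ⟨gT, hgT, -⟩ := KSplit28.exists_ringHom (T 0).subschemeι hKT kM₁
    refine mul_one_sub_eq_zero hMe₁ (hT 0) kM₁ hKT (g := gT.toAddMonoidHom) hgT ?_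
    let k : (T 0).subscheme ⟶ Y₁ := IsClosedImmersion.lift D₁.i₀ (T 0).subschemeι (by
      rw [Scheme.IdealSheafData.ker_subschemeι, D₁.ker_i₀])
    obtain ⟨gk, hgk, -⟩ := KSplit28.exists_ringHom k hKT kY₁
    show gT (δ - gb (gq Δ)) = 0
    have e : ∀ z, gk (g₀' z) = gT z := pull_comp (IsClosedImmersion.lift_fac _ _ _) kM₁ hgk hg₀' hgT
    rw [← e, map_sub, h0δ, h0Δ, sub_self, map_zero]
  -- restriction at infinity
  obtain ⟨B, hBeff, hBJ, hBF⟩ := D₁.exists_residual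
  have hkillB : δ * (1 - φM₁ (KRR.cl D₁.M (ClSub.idealMod B))) = 0 := by
    obtain ⟨KB, _, _, φB, hKB⟩ := exists_kring.{u} B.subscheme
    obtain ⟨gB, hgB, -⟩ := KSplit28.exists_ringHom B.subschemeι hKB kM₁
    obtain ⟨gBΦ, hgBΦ, -⟩ := KSplit28.exists_ringHom (B.subschemeι ≫ Φ) hKB kM
    refine mul_one_sub_eq_zero hMe₁ hBeff kM₁ hKB (g := gB.toAddMonoidHom) hgB ?_
    have hdis : Disjoint (Set.range B.subschemeι) (Set.range D₁.F) := by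
      rw [Set.disjoint_left]
      rintro _ hm ⟨p, rfl⟩
      rw [Scheme.IdealSheafData.range_subschemeι] at hm
      have hp : p ∈ (B.comap D₁.F).support := by
        rw [Scheme.IdealSheafData.support_comap]; exact hm
      rw [hBF, Scheme.IdealSheafData.support_top] at hp
      exact hp
    have hdisΦ : Disjoint (Set.range (B.subschemeι ≫ Φ)) (Set.range D.F) := by
      rw [Set.disjoint_left]
      rintro _ ⟨b, rfl⟩ hb
      rw [Scheme.Hom.comp_apply] at hb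
      exact Set.disjoint_left.1 hdis ⟨b, rfl⟩ (preimage_range_F D D₁ hkerF _ hb)
    show gB δ = 0
    rw [hδdef, map_sub, show gB (pF₁ (gX₁ w)) = 0 from pull_push_eq_zero hMe₁ hF₁ B.subschemeι hdis kPX₁ hgB hpF₁ _,
      sub_zero]
    refine (pull_comp rfl kM hgB hgΦ hgBΦ _).trans ?_
    exact pull_push_eq_zero hMe hF (B.subschemeι ≫ Φ) hdisΦ kPX hgBΦ hpF _
  have hkillJ : δ * (1 - φM₁ (KRR.cl D₁.M (ClSub.idealMod D₁.J))) = 0 := by
    refine mul_one_sub_eq_zero hMe₁ D₁.isEffCartier_J kM₁ kE₁ (g := ge₁.toAddMonoidHom) hge₁ ?_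
    show ge₁ δ = 0
    obtain ⟨gc, hgc, -, -, -⟩ := KSplit28.exists_pullHom (ΦE ≫ D.e) hKE₁ hKM
    have e : ∀ z, ge₁ (gΦ z) = gE (ge z) := fun z =>
      (pull_comp hΦE.symm kM hge₁ hgΦ hgc z).trans (pull_comp rfl kM hgE hge hgc z).symm
    have hbc : ∀ y, ge (pF y) = pI (s₁ y) :=
      pull_push D.isPullback_fInf hMe hF hI hFc hIc kPX hge hs₁ hpF hpI
    have hbc' : ∀ y, ge₁ (pF₁ y) = pI₁ (s₁' y) :=
      pull_push D₁.isPullback_fInf hMe₁ hF₁ hI₁ hFc₁ hIc₁ kPX₁ hge₁ hs₁' hpF₁ hpI₁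
    rw [hδdef, map_sub, e, hbc, hbc', hsX₁, hsX₁', sub_eq_zero]
    -- the Koszul classes
    obtain ⟨L, hL, hLi, Q, hQ, hQeq, t, ht⟩ := D.exists_bundle hf hC
    obtain ⟨L₁, hL₁, hLi₁, Q₁, hQ₁, hQeq₁, t₁, ht₁⟩ := D₁.exists_bundle hf₁ hC₁
    have hLf : FlatMod.IsFinLocFree L := VarietyLib.isFinLocFree_of_rank (PicLib.isFinLocFreeOfRank_one hLi)
    have hLf₁ : FlatMod.IsFinLocFree L₁ := VarietyLib.isFinLocFree_of_rank (PicLib.isFinLocFreeOfRank_one hLi₁)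
    have hCf := VarietyLib.isFinLocFree_of_rank hC
    have hCf₁ := VarietyLib.isFinLocFree_of_rank hC₁
    set l₁ := φM₁ (KRR.cl D₁.M L₁) with hl₁def
    have hq : φE (KRR.cl _ Q) = gρ c * ge (φM (KRR.cl D.M L)) := by
      rw [show gρ c = _ from hgρ _ hCf, show ge (φM (KRR.cl D.M L)) = _ from hge _ hLf, hQeq,
        hKE.map_mul _ _ (FlatMorAdm.isFinLocFree_pullback D.ρ hCf) (FlatMorAdm.isFinLocFree_pullback D.e hLf)]
      rfl
    have hq₁ : φE₁ (KRR.cl _ Q₁) = gρ₁ c₁ * ge₁ l₁ := by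
      rw [show gρ₁ c₁ = _ from hgρ₁ _ hCf₁, show ge₁ l₁ = _ from hge₁ _ hLf₁, hQeq₁,
        hKE₁.map_mul _ _ (FlatMorAdm.isFinLocFree_pullback D₁.ρ hCf₁) (FlatMorAdm.isFinLocFree_pullback D₁.e hLf₁)]
      rfl
    set Nt := CohB1.tensorMod ((Scheme.Modules.pullback D₁.ρ).obj NB) ((Scheme.Modules.pullback D₁.e).obj L₁) with hNtdef
    have hNt : FlatMod.IsFinLocFreeOfRank r Nt := CycLib28.PB.Ops.rank_tensor_line
      (VarietyLib.isFinLocFreeOfRank_pullback D₁.ρ hNB) (PicLoc.isInvertible_pullback D₁.e hLi₁)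
    set ε' := gρ₁ ε * ge₁ l₁ with hε'def
    have hε'cl : ε' = φE₁ (KRR.cl _ Nt) := by
      rw [hε'def, show gρ₁ ε = _ from hgρ₁ _ (VarietyLib.isFinLocFree_of_rank hNB),
        show ge₁ l₁ = _ from hge₁ _ hLf₁, hKE₁.map_mul _ _
          (FlatMorAdm.isFinLocFree_pullback D₁.ρ (VarietyLib.isFinLocFree_of_rank hNB))
          (FlatMorAdm.isFinLocFree_pullback D₁.e hLf₁)]
      rfl
    have hρc : ∀ z, gE (gρ z) = gρ₁ (gψ z) := fun z => by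
      obtain ⟨gc', hgc', -, -, -⟩ := KSplit28.exists_pullHom (ΦE ≫ D.ρ) hKE₁ hKX
      exact (pull_comp rfl kX hgE hgρ hgc' z).trans (pull_comp hρ.symm kX hgρ₁ hgψ hgc' z).symm
    have hJf := isFinLocFree_idealMod D.isEffCartier_J
    have hlΦ : gΦ (φM (KRR.cl D.M L)) = l₁ := by
      have h1 : gΦ (φM (KRR.cl D.M (ClSub.idealMod D.J))) = φM₁ (KRR.cl D₁.M (ClSub.idealMod D₁.J)) := by
        obtain ⟨e1⟩ := Inters29.nonempty_pullback_idealMod_iso Φ D.J D.isEffCartier_J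
          (by rw [hΦJ]; exact D₁.isEffCartier_J)
        exact (hgΦ _ hJf).trans (congrArg φM₁ (ExtFilt28.clv_iso (e1 ≪≫ eqToIso (congrArg ClSub.idealMod hΦJ))))
      have h2 := congrArg gΦ (cl_mul_inverse hKM D.isEffCartier_J hL hLi)
      rw [map_mul, map_one, h1] at h2
      have h3 := cl_mul_inverse hKM₁ D₁.isEffCartier_J hL₁ hLi₁
      rw [← hl₁def] at h3
      linear_combination l₁ * h2 - gΦ (φM (KRR.cl D.M L)) * h3
    have hl1 : gi₁ (ge₁ l₁) = 1 := by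
      have := congrArg (fun z => gi₁ (ge₁ z)) (cl_mul_inverse hKM₁ D₁.isEffCartier_J hL₁ hLi₁)
      simpa only [map_mul, map_one, cl_J_fInf D₁ hKX₁ hKM₁ hgi₁ hge₁, one_mul] using this
    have hgq : gE (φE (KRR.cl _ Q)) = ε' + φE₁ (KRR.cl _ Q₁) := by
      rw [hq, map_mul, hρc, hψc, ← e, hlΦ, map_add, hq₁, hε'def]
      ring
    have hret : ∀ z, gi (gρ z) = z := fun z => pull_comp D.fInf_ρ kX hgi hgρ (pull_id kX) z
    have hret₁ : ∀ z, gi₁ (gρ₁ z) = z := fun z => pull_comp D₁.fInf_ρ kX₁ hgi₁ hgρ₁ (pull_id kX₁) z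
    have hproj : ∀ y, pI (gi y) = pI 1 * y := fun y => by
      have := S3747.result D.fInf hI hEe KX PX φX hKX KE PE φE hKE gi.toAddMonoidHom hgi pI hpI 1 y
      rwa [one_mul] at this
    have hproj₁ : ∀ y, pI₁ (gi₁ y) = pI₁ 1 * y := fun y => by
      have := S3747.result D₁.fInf hI₁ hEe₁ KX₁ PX₁ φX₁ hKX₁ KE₁ PE₁ φE₁ hKE₁ gi₁.toAddMonoidHom hgi₁ pI₁ hpI₁ 1 y
      rwa [one_mul] at this
    have hεi : gi₁ ε' = ε := by rw [hε'def, map_mul, hret₁, hl1, mul_one]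
    calc gE (pI x) = gE (pI 1 * gρ x) := by rw [← hproj, hret]
      _ = KRR.lamAlt PE₁ (ε' + φE₁ (KRR.cl _ Q₁)) * gρ₁ (gψ x) := by
        rw [map_mul, hρc, push_one_eq_lamAlt D.fInf hI hIc hQ t ht hKX hKE hpI, map_lamAlt gE hlE haE, hgq]
      _ = pI₁ 1 * (KRR.lamAlt PE₁ ε' * gρ₁ (gψ x)) := by
        rw [push_one_eq_lamAlt D₁.fInf hI₁ hIc₁ hQ₁ t₁ ht₁ hKX₁ hKE₁ hpI₁,
          lamAlt_add (hε'cl.symm ▸ bdd_of_bundle hKE₁ hNt) (bdd_of_bundle hKE₁ hQ₁)]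
        ring
      _ = pI₁ w := by
        rw [← hproj₁, map_mul, hret₁, map_lamAlt gi₁ hli₁ hai₁, hεi]
  have hkill : δ * (1 - m 1) = 0 := by
    have hm : m 1 = φM₁ (KRR.cl D₁.M (ClSub.idealMod B)) * φM₁ (KRR.cl D₁.M (ClSub.idealMod D₁.J)) := by
      rw [cl_mul_eff kM₁ hBeff D₁.isEffCartier_J, hBJ]
    rw [hm]
    linear_combination hkillB + φM₁ (KRR.cl D₁.M (ClSub.idealMod B)) * hkillJ
  -- on the projective line
  let t : Fin (1 + 1) → KP := fun k => φP (KRR.cl _ (ClSub.idealMod (sectIdeal Y₁ k)))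
  have hbt : ∀ k, gb (t k) = m k := fun k => by
    obtain ⟨e⟩ := Inters29.nonempty_pullback_idealMod_iso D₁.b _ (isEffCartier_sectIdeal Y₁ k) (hT k)
    exact (hgb _ (isFinLocFree_idealMod (isEffCartier_sectIdeal Y₁ k))).trans (congrArg φM₁ (ExtFilt28.clv_iso e))
  have ht01 : t 0 = t 1 := by
    obtain ⟨e⟩ := nonempty_sectIdeal_iso Y₁
    exact congrArg φP (ExtFilt28.clv_iso e)
  have hm01 : m 0 = m 1 := by rw [← hbt, ← hbt, ht01]
  have hker : gb (gq Δ * (1 - t 0)) = 0 := by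
    rw [map_mul gb, map_sub gb (1 : KP), map_one, hbt]
    linear_combination (norm := ring_nf) hkill - hzero
    rw [hm01]; ring
  haveI := D₁.isIso_b_off
  have hw0 : gq Δ * (1 - t 0) = 0 :=
    injective_pull hAP₁ D₁.b (S3202.result (centre f₁) (isRegularClosedImmersion_centre f₁ hf₁ hC₁) D₁.b D₁.hb) i hib
      (Dual22Lib.ProjSmooth.smooth_toBase N (KRR.PY 1 Y₁)) (P1.sect Y₁ 0) (centre f₁).ker.support.compl
      (Deformation.range_i₀ (f := f₁)) hPe₁ hQe₁ hKP kM₁ hgb hker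
  obtain ⟨gp, hgp, -⟩ := KPr28.existsUnique_isPushPr (n := 1) (Y := Y₁) φP hKP.bijective φY₁
  obtain ⟨-, hlin⟩ := KSplit28.pushPr_pull_mul 1 Y₁ hKP hKY₁ hgp hgq hpow hbasis
  have hfin := congrArg gp hw0
  rwa [hlin, map_zero, pushPr_one_sub_sect hYe₁ hPe₁ 0 hKP.bijective hKP.map_one hKY₁.map_one hgp, mul_one] at hfin

end Groth.Agent.KRR28
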